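import Cfsg.Agent.CosetCert.FiTwentyThree.Data

/-! Machine-generated checks. -/

set_option maxRecDepth 10000
set_option Elab.async false

namespace Cfsg.Agent.CosetCert.FiTwentyThree

open Cfsg.Agent.CosetCert

/-- Everything to check at one point. -/
noncomputable def pointOK (i : ℕ) : Bool :=
  ((List.range data.cols.length).all fun l => data.edgeOK i (l + 1)) &&
    (((List.range data.cols.length).all fun l => data.lookOK i (l + 1)) && data.treeOK i)

end Cfsg.Agent.CosetCert.FiTwentyThree
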