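import Cfsg.Agent.CosetCert.FiTwentyThree.Facts0
import Cfsg.Agent.CosetCert.FiTwentyThree.Facts1
import Cfsg.Agent.CosetCert.FiTwentyThree.Facts2
import Cfsg.Agent.CosetCert.FiTwentyThree.Facts3
import Cfsg.Agent.CosetCert.FiTwentyThree.Facts4
import Cfsg.Agent.CosetCert.FiTwentyThree.Facts5
import Cfsg.Agent.CosetCert.FiTwentyThree.Facts6
import Cfsg.Agent.CosetCert.FiTwentyThree.Facts7
import Cfsg.Agent.CosetCert.FiTwentyThree.Facts8
import Cfsg.Agent.CosetCert.FiTwentyThree.Facts9
import Cfsg.Agent.CosetCert.FiTwentyThree.Facts10
import Cfsg.Agent.CosetCert.FiTwentyThree.Facts11
import Cfsg.Agent.CosetCert.FiTwentyThree.Facts12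
import Cfsg.Agent.CosetCert.FiTwentyThree.Facts13
import Cfsg.Agent.CosetCert.FiTwentyThree.PointDef
import Cfsg.Agent.CosetCert.FiTwentyThree.Points0
import Cfsg.Agent.CosetCert.FiTwentyThree.Points1
import Cfsg.Agent.CosetCert.FiTwentyThree.Points2
import Cfsg.Agent.CosetCert.FiTwentyThree.Points3
import Cfsg.Agent.CosetCert.FiTwentyThree.Points4
import Cfsg.Agent.CosetCert.FiTwentyThree.Points5
import Cfsg.Agent.CosetCert.FiTwentyThree.Points6
import Cfsg.Agent.CosetCert.FiTwentyThree.Points7
import Cfsg.Agent.CosetCert.FiTwentyThree.Relators0
import Cfsg.Agent.CosetCert.FiTwentyThree.Relators1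
import Cfsg.Agent.CosetCert.FiTwentyThree.Relators2
import Cfsg.Agent.CosetCert.FiTwentyThree.Relators3
import Cfsg.Agent.CosetCert.FiTwentyThree.Relators4
import Cfsg.Agent.CosetCert.FiTwentyThree.Relators5
import Cfsg.Agent.CosetCert.FiTwentyThree.Relators6
import Cfsg.Agent.CosetCert.FiTwentyThree.Relators7

/-! Machine-generated assembly. -/

set_option maxRecDepth 100000

namespace Cfsg.Agent.CosetCert.FiTwentyThree

open Cfsg.Agent.CosetCert

/-- The subgroup words. -/
abbrev gensList : List (FreeGroup Cfsg.Spor.Fi23.Gen) :=
  [Cfsg.Spor.Fi23.a, Cfsg.Spor.Fi23.b, Cfsg.Spor.Fi23.c, Cfsg.Spor.Fi23.d, Cfsg.Spor.Fi23.e, Cfsg.Spor.Fi23.f, Cfsg.Spor.Fi23.g, Cfsg.Spor.Fi23.h, Cfsg.Spor.Fi23.i]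

theorem facts_all : ∀ k < data.nf, data.cert.factOK k = true := by
  intro k hk
  exact ((below_step (f := fun k => Nat.ble data.nf k || data.cert.factOK k) (below_step (f := fun k => Nat.ble data.nf k || data.cert.factOK k) (below_step (f := fun k => Nat.ble data.nf k || data.cert.factOK k) (below_step (f := fun k => Nat.ble data.nf k || data.cert.factOK k) (below_step (f := fun k => Nat.ble data.nf k || data.cert.factOK k) (below_step (f := fun k => Nat.ble data.nf k || data.cert.factOK k) (below_step (f := fun k => Nat.ble data.nf k || data.cert.factOK k) (below_step (f := fun k => Nat.ble data.nf k || data.cert.factOK k) (below_step (f := fun k => Nat.ble data.nf k || data.cert.factOK k) (below_step (f := fun k => Nat.ble data.nf k || data.cert.factOK k) (below_step (f := fun k => Nat.ble data.nf k || data.cert.factOK k) (below_step (f := fun k => Nat.ble data.nf k || data.cert.factOK k) (below_step (f := fun k => Nat.ble data.nf k || data.cert.factOK k) (below_step (f := fun k => Nat.ble data.nf k || data.cert.factOK k) (below_step (f := fun k => Nat.ble data.nf k || data.cert.factOK k) (below_step (f := fun k => Nat.ble data.nf k || data.cert.factOK k) (below_step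 (f := fun k => Nat.ble data.nf k || data.cert.factOK k) (below_step (f := fun k => Nat.ble data.nf k || data.cert.factOK k) (below_step (f := fun k => Nat.ble data.nf k || data.cert.factOK k) (below_step (f := fun k => Nat.ble data.nf k || data.cert.factOK k) (below_step (f := fun k => Nat.ble data.nf k || data.cert.factOK k) (below_step (f := fun k => Nat.ble data.nf k || data.cert.factOK k) (below_step (f := fun k => Nat.ble data.nf k || data.cert.factOK k) (below_step (f := fun k => Nat.ble data.nf k || data.cert.factOK k) (below_step (f := fun k => Nat.ble data.nf k || data.cert.factOK k) (below_step (f := fun k => Nat.ble data.nf k || data.cert.factOK k) (below_step (f := fun k => Nat.ble data.nf k || data.cert.factOK k) (below_step (f := fun k => Nat.ble data.nf k || data.cert.factOK k) (below_step (f := fun k => Nat.ble data.nf k || data.cert.factOK k) (below_step (f := fun k => Nat.ble data.nf k || data.cert.factOK k) (below_step (f := fun k => Nat.ble data.nf k || data.cert.factOK k) (below_step (f := fun k => Nat.ble data.nf k || data.cert.factOK k) (below_step (f := fun k => Nat.ble data.nf k || data.cert.factOK k) (below_step (f := fun k => Nat.ble data.nf k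 || data.cert.factOK k) (below_step (f := fun k => Nat.ble data.nf k || data.cert.factOK k) (below_step (f := fun k => Nat.ble data.nf k || data.cert.factOK k) (below_step (f := fun k => Nat.ble data.nf k || data.cert.factOK k) (below_step (f := fun k => Nat.ble data.nf k || data.cert.factOK k) (below_step (f := fun k => Nat.ble data.nf k || data.cert.factOK k) (below_step (f := fun k => Nat.ble data.nf k || data.cert.factOK k) (below_step (f := fun k => Nat.ble data.nf k || data.cert.factOK k) (below_step (f := fun k => Nat.ble data.nf k || data.cert.factOK k) (below_step (f := fun k => Nat.ble data.nf k || data.cert.factOK k) (below_step (f := fun k => Nat.ble data.nf k || data.cert.factOK k) (below_step (f := fun k => Nat.ble data.nf k || data.cert.factOK k) (below_step (f := fun k => Nat.ble data.nf k || data.cert.factOK k) (below_step (f := fun k => Nat.ble data.nf k || data.cert.factOK k) (below_step (f := fun k => Nat.ble data.nf k || data.cert.factOK k) (below_step (f := fun k => Nat.ble data.nf k || data.cert.factOK k) (below_step (f := fun k => Nat.ble data.nf k || data.cert.factOK k) (below_step (f := fun k => Nat.ble data.nf k || data.cert.factOK k) (below_step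 (f := fun k => Nat.ble data.nf k || data.cert.factOK k) (below_step (f := fun k => Nat.ble data.nf k || data.cert.factOK k) (below_step (f := fun k => Nat.ble data.nf k || data.cert.factOK k) (below_step (f := fun k => Nat.ble data.nf k || data.cert.factOK k) (below_step (f := fun k => Nat.ble data.nf k || data.cert.factOK k) (below_step (f := fun k => Nat.ble data.nf k || data.cert.factOK k) (below_step (f := fun k => Nat.ble data.nf k || data.cert.factOK k) (below_step (f := fun k => Nat.ble data.nf k || data.cert.factOK k) (below_step (f := fun k => Nat.ble data.nf k || data.cert.factOK k) (below_step (f := fun k => Nat.ble data.nf k || data.cert.factOK k) (below_step (f := fun k => Nat.ble data.nf k || data.cert.factOK k) (below_step (f := fun k => Nat.ble data.nf k || data.cert.factOK k) (below_step (f := fun k => Nat.ble data.nf k || data.cert.factOK k) (below_step (f := fun k => Nat.ble data.nf k || data.cert.factOK k) (below_step (f := fun k => Nat.ble data.nf k || data.cert.factOK k) (below_step (f := fun k => Nat.ble data.nf k || data.cert.factOK k) (below_step (f := fun k => Nat.ble data.nf k || data.cert.factOK k) (below_step (f := fun k => Nat.ble data.nf k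 || data.cert.factOK k) (below_step (f := fun k => Nat.ble data.nf k || data.cert.factOK k) (below_step (f := fun k => Nat.ble data.nf k || data.cert.factOK k) (below_step (f := fun k => Nat.ble data.nf k || data.cert.factOK k) (below_step (f := fun k => Nat.ble data.nf k || data.cert.factOK k) (below_step (f := fun k => Nat.ble data.nf k || data.cert.factOK k) (below_step (f := fun k => Nat.ble data.nf k || data.cert.factOK k) (below_step (f := fun k => Nat.ble data.nf k || data.cert.factOK k) (below_step (f := fun k => Nat.ble data.nf k || data.cert.factOK k) (below_step (f := fun k => Nat.ble data.nf k || data.cert.factOK k) (below_step (f := fun k => Nat.ble data.nf k || data.cert.factOK k) (below_step (f := fun k => Nat.ble data.nf k || data.cert.factOK k) (below_step (f := fun k => Nat.ble data.nf k || data.cert.factOK k) (below_step (f := fun k => Nat.ble data.nf k || data.cert.factOK k) (below_step (f := fun k => Nat.ble data.nf k || data.cert.factOK k) (below_step (f := fun k => Nat.ble data.nf k || data.cert.factOK k) (below_step (f := fun k => Nat.ble data.nf k || data.cert.factOK k) (below_step (f := fun k => Nat.ble data.nf k || data.cert.factOK k) (below_step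 (f := fun k => Nat.ble data.nf k || data.cert.factOK k) (below_step (f := fun k => Nat.ble data.nf k || data.cert.factOK k) (below_step (f := fun k => Nat.ble data.nf k || data.cert.factOK k) (below_step (f := fun k => Nat.ble data.nf k || data.cert.factOK k) (below_step (f := fun k => Nat.ble data.nf k || data.cert.factOK k) (below_step (f := fun k => Nat.ble data.nf k || data.cert.factOK k) (below_step (f := fun k => Nat.ble data.nf k || data.cert.factOK k) (below_step (f := fun k => Nat.ble data.nf k || data.cert.factOK k) (below_step (f := fun k => Nat.ble data.nf k || data.cert.factOK k) (below_step (f := fun k => Nat.ble data.nf k || data.cert.factOK k) (below_step (f := fun k => Nat.ble data.nf k || data.cert.factOK k) (below_step (f := fun k => Nat.ble data.nf k || data.cert.factOK k) (below_step (f := fun k => Nat.ble data.nf k || data.cert.factOK k) (below_step (f := fun k => Nat.ble data.nf k || data.cert.factOK k) (below_step (f := fun k => Nat.ble data.nf k || data.cert.factOK k) (below_step (f := fun k => Nat.ble data.nf k || data.cert.factOK k) (below_step (f := fun k => Nat.ble data.nf k || data.cert.factOK k) (below_step (f := fun k => Nat.ble data.nf k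 || data.cert.factOK k) (below_step (f := fun k => Nat.ble data.nf k || data.cert.factOK k) (below_step (f := fun k => Nat.ble data.nf k || data.cert.factOK k) (below_step (f := fun k => Nat.ble data.nf k || data.cert.factOK k) (below_step (f := fun k => Nat.ble data.nf k || data.cert.factOK k) (below_step (f := fun k => Nat.ble data.nf k || data.cert.factOK k) (below_step (f := fun k => Nat.ble data.nf k || data.cert.factOK k) (below_step (f := fun k => Nat.ble data.nf k || data.cert.factOK k) (below_step (f := fun k => Nat.ble data.nf k || data.cert.factOK k) below_zero (fun i h hi => of_ble_or h hi) facts_block0) (fun i h hi => of_ble_or h hi) facts_block1) (fun i h hi => of_ble_or h hi) facts_block2) (fun i h hi => of_ble_or h hi) facts_block3) (fun i h hi => of_ble_or h hi) facts_block4) (fun i h hi => of_ble_or h hi) facts_block5) (fun i h hi => of_ble_or h hi) facts_block6) (fun i h hi => of_ble_or h hi) facts_block7) (fun i h hi => of_ble_or h hi) facts_block8) (fun i h hi => of_ble_or h hi) facts_block9) (fun i h hi => of_ble_or h hi) facts_block10) (fun i h hi => of_ble_or h hi) facts_block11) (fun i h hi => of_ble_or h hi) facts_block12) (fun i h hi => of_ble_or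 h hi) facts_block13) (fun i h hi => of_ble_or h hi) facts_block14) (fun i h hi => of_ble_or h hi) facts_block15) (fun i h hi => of_ble_or h hi) facts_block16) (fun i h hi => of_ble_or h hi) facts_block17) (fun i h hi => of_ble_or h hi) facts_block18) (fun i h hi => of_ble_or h hi) facts_block19) (fun i h hi => of_ble_or h hi) facts_block20) (fun i h hi => of_ble_or h hi) facts_block21) (fun i h hi => of_ble_or h hi) facts_block22) (fun i h hi => of_ble_or h hi) facts_block23) (fun i h hi => of_ble_or h hi) facts_block24) (fun i h hi => of_ble_or h hi) facts_block25) (fun i h hi => of_ble_or h hi) facts_block26) (fun i h hi => of_ble_or h hi) facts_block27) (fun i h hi => of_ble_or h hi) facts_block28) (fun i h hi => of_ble_or h hi) facts_block29) (fun i h hi => of_ble_or h hi) facts_block30) (fun i h hi => of_ble_or h hi) facts_block31) (fun i h hi => of_ble_or h hi) facts_block32) (fun i h hi => of_ble_or h hi) facts_block33) (fun i h hi => of_ble_or h hi) facts_block34) (fun i h hi => of_ble_or h hi) facts_block35) (fun i h hi => of_ble_or h hi) facts_block36) (fun i h hi => of_ble_or h hi) facts_block37) (fun i h hi => of_ble_or h hi) facts_block38) (fun i h hi => of_ble_or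 h hi) facts_block39) (fun i h hi => of_ble_or h hi) facts_block40) (fun i h hi => of_ble_or h hi) facts_block41) (fun i h hi => of_ble_or h hi) facts_block42) (fun i h hi => of_ble_or h hi) facts_block43) (fun i h hi => of_ble_or h hi) facts_block44) (fun i h hi => of_ble_or h hi) facts_block45) (fun i h hi => of_ble_or h hi) facts_block46) (fun i h hi => of_ble_or h hi) facts_block47) (fun i h hi => of_ble_or h hi) facts_block48) (fun i h hi => of_ble_or h hi) facts_block49) (fun i h hi => of_ble_or h hi) facts_block50) (fun i h hi => of_ble_or h hi) facts_block51) (fun i h hi => of_ble_or h hi) facts_block52) (fun i h hi => of_ble_or h hi) facts_block53) (fun i h hi => of_ble_or h hi) facts_block54) (fun i h hi => of_ble_or h hi) facts_block55) (fun i h hi => of_ble_or h hi) facts_block56) (fun i h hi => of_ble_or h hi) facts_block57) (fun i h hi => of_ble_or h hi) facts_block58) (fun i h hi => of_ble_or h hi) facts_block59) (fun i h hi => of_ble_or h hi) facts_block60) (fun i h hi => of_ble_or h hi) facts_block61) (fun i h hi => of_ble_or h hi) facts_block62) (fun i h hi => of_ble_or h hi) facts_block63) (fun i h hi => of_ble_or h hi) facts_block64) (fun i h hi => of_ble_or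 h hi) facts_block65) (fun i h hi => of_ble_or h hi) facts_block66) (fun i h hi => of_ble_or h hi) facts_block67) (fun i h hi => of_ble_or h hi) facts_block68) (fun i h hi => of_ble_or h hi) facts_block69) (fun i h hi => of_ble_or h hi) facts_block70) (fun i h hi => of_ble_or h hi) facts_block71) (fun i h hi => of_ble_or h hi) facts_block72) (fun i h hi => of_ble_or h hi) facts_block73) (fun i h hi => of_ble_or h hi) facts_block74) (fun i h hi => of_ble_or h hi) facts_block75) (fun i h hi => of_ble_or h hi) facts_block76) (fun i h hi => of_ble_or h hi) facts_block77) (fun i h hi => of_ble_or h hi) facts_block78) (fun i h hi => of_ble_or h hi) facts_block79) (fun i h hi => of_ble_or h hi) facts_block80) (fun i h hi => of_ble_or h hi) facts_block81) (fun i h hi => of_ble_or h hi) facts_block82) (fun i h hi => of_ble_or h hi) facts_block83) (fun i h hi => of_ble_or h hi) facts_block84) (fun i h hi => of_ble_or h hi) facts_block85) (fun i h hi => of_ble_or h hi) facts_block86) (fun i h hi => of_ble_or h hi) facts_block87) (fun i h hi => of_ble_or h hi) facts_block88) (fun i h hi => of_ble_or h hi) facts_block89) (fun i h hi => of_ble_or h hi) facts_block90) (fun i h hi => of_ble_or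 h hi) facts_block91) (fun i h hi => of_ble_or h hi) facts_block92) (fun i h hi => of_ble_or h hi) facts_block93) (fun i h hi => of_ble_or h hi) facts_block94) (fun i h hi => of_ble_or h hi) facts_block95) (fun i h hi => of_ble_or h hi) facts_block96) (fun i h hi => of_ble_or h hi) facts_block97) (fun i h hi => of_ble_or h hi) facts_block98) (fun i h hi => of_ble_or h hi) facts_block99) (fun i h hi => of_ble_or h hi) facts_block100) (fun i h hi => of_ble_or h hi) facts_block101) (fun i h hi => of_ble_or h hi) facts_block102) (fun i h hi => of_ble_or h hi) facts_block103) (fun i h hi => of_ble_or h hi) facts_block104) (fun i h hi => of_ble_or h hi) facts_block105) (fun i h hi => of_ble_or h hi) facts_block106) (fun i h hi => of_ble_or h hi) facts_block107) (fun i h hi => of_ble_or h hi) facts_block108) (fun i h hi => of_ble_or h hi) facts_block109) (fun i h hi => of_ble_or h hi) facts_block110) (fun i h hi => of_ble_or h hi) facts_block111) : ∀ i < 227328 + 2 ^ 11, i < data.nf → data.cert.factOK i = true)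
    k (lt_of_lt_of_le hk (by decide +kernel)) hk

theorem points_all : ∀ i < data.N, pointOK i = true := by
  intro k hk
  exact ((below_step (f := fun i => Nat.ble data.N i || pointOK i) (below_step (f := fun i => Nat.ble data.N i || pointOK i) (below_step (f := fun i => Nat.ble data.N i || pointOK i) (below_step (f := fun i => Nat.ble data.N i || pointOK i) (below_step (f := fun i => Nat.ble data.N i || pointOK i) (below_step (f := fun i => Nat.ble data.N i || pointOK i) (below_step (f := fun i => Nat.ble data.N i || pointOK i) (below_step (f := fun i => Nat.ble data.N i || pointOK i) (below_step (f := fun i => Nat.ble data.N i || pointOK i) (below_step (f := fun i => Nat.ble data.N i || pointOK i) (below_step (f := fun i => Nat.ble data.N i || pointOK i) (below_step (f := fun i => Nat.ble data.N i || pointOK i) (below_step (f := fun i => Nat.ble data.N i || pointOK i) (below_step (f := fun i => Nat.ble data.N i || pointOK i) (below_step (f := fun i => Nat.ble data.N i || pointOK i) (below_step (f := fun i => Nat.ble data.N i || pointOK i) (below_step (f := fun i => Nat.ble data.N i || pointOK i) (below_step (f := fun i => Nat.ble data.N i || pointOK i) (below_step (f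 := fun i => Nat.ble data.N i || pointOK i) (below_step (f := fun i => Nat.ble data.N i || pointOK i) (below_step (f := fun i => Nat.ble data.N i || pointOK i) (below_step (f := fun i => Nat.ble data.N i || pointOK i) (below_step (f := fun i => Nat.ble data.N i || pointOK i) (below_step (f := fun i => Nat.ble data.N i || pointOK i) (below_step (f := fun i => Nat.ble data.N i || pointOK i) (below_step (f := fun i => Nat.ble data.N i || pointOK i) (below_step (f := fun i => Nat.ble data.N i || pointOK i) (below_step (f := fun i => Nat.ble data.N i || pointOK i) (below_step (f := fun i => Nat.ble data.N i || pointOK i) (below_step (f := fun i => Nat.ble data.N i || pointOK i) (below_step (f := fun i => Nat.ble data.N i || pointOK i) (below_step (f := fun i => Nat.ble data.N i || pointOK i) (below_step (f := fun i => Nat.ble data.N i || pointOK i) (below_step (f := fun i => Nat.ble data.N i || pointOK i) (below_step (f := fun i => Nat.ble data.N i || pointOK i) (below_step (f := fun i => Nat.ble data.N i || pointOK i) (below_step (f := fun i => Nat.ble data.N i || pointOK i) (below_step (f := fun i => Nat.ble data.N i || pointOK i) (below_step (f := fun i => Nat.ble data.N i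 || pointOK i) (below_step (f := fun i => Nat.ble data.N i || pointOK i) (below_step (f := fun i => Nat.ble data.N i || pointOK i) (below_step (f := fun i => Nat.ble data.N i || pointOK i) (below_step (f := fun i => Nat.ble data.N i || pointOK i) (below_step (f := fun i => Nat.ble data.N i || pointOK i) (below_step (f := fun i => Nat.ble data.N i || pointOK i) (below_step (f := fun i => Nat.ble data.N i || pointOK i) (below_step (f := fun i => Nat.ble data.N i || pointOK i) (below_step (f := fun i => Nat.ble data.N i || pointOK i) (below_step (f := fun i => Nat.ble data.N i || pointOK i) (below_step (f := fun i => Nat.ble data.N i || pointOK i) (below_step (f := fun i => Nat.ble data.N i || pointOK i) (below_step (f := fun i => Nat.ble data.N i || pointOK i) (below_step (f := fun i => Nat.ble data.N i || pointOK i) (below_step (f := fun i => Nat.ble data.N i || pointOK i) (below_step (f := fun i => Nat.ble data.N i || pointOK i) (below_step (f := fun i => Nat.ble data.N i || pointOK i) (below_step (f := fun i => Nat.ble data.N i || pointOK i) (below_step (f := fun i => Nat.ble data.N i || pointOK i) (below_step (f := fun i => Nat.ble data.N i || pointOK i) (below_step (f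 := fun i => Nat.ble data.N i || pointOK i) (below_step (f := fun i => Nat.ble data.N i || pointOK i) (below_step (f := fun i => Nat.ble data.N i || pointOK i) (below_step (f := fun i => Nat.ble data.N i || pointOK i) (below_step (f := fun i => Nat.ble data.N i || pointOK i) (below_step (f := fun i => Nat.ble data.N i || pointOK i) (below_step (f := fun i => Nat.ble data.N i || pointOK i) (below_step (f := fun i => Nat.ble data.N i || pointOK i) (below_step (f := fun i => Nat.ble data.N i || pointOK i) (below_step (f := fun i => Nat.ble data.N i || pointOK i) (below_step (f := fun i => Nat.ble data.N i || pointOK i) (below_step (f := fun i => Nat.ble data.N i || pointOK i) (below_step (f := fun i => Nat.ble data.N i || pointOK i) (below_step (f := fun i => Nat.ble data.N i || pointOK i) (below_step (f := fun i => Nat.ble data.N i || pointOK i) (below_step (f := fun i => Nat.ble data.N i || pointOK i) (below_step (f := fun i => Nat.ble data.N i || pointOK i) (below_step (f := fun i => Nat.ble data.N i || pointOK i) (below_step (f := fun i => Nat.ble data.N i || pointOK i) (below_step (f := fun i => Nat.ble data.N i || pointOK i) (below_step (f := fun i => Nat.ble data.N i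 || pointOK i) (below_step (f := fun i => Nat.ble data.N i || pointOK i) (below_step (f := fun i => Nat.ble data.N i || pointOK i) (below_step (f := fun i => Nat.ble data.N i || pointOK i) (below_step (f := fun i => Nat.ble data.N i || pointOK i) (below_step (f := fun i => Nat.ble data.N i || pointOK i) (below_step (f := fun i => Nat.ble data.N i || pointOK i) (below_step (f := fun i => Nat.ble data.N i || pointOK i) (below_step (f := fun i => Nat.ble data.N i || pointOK i) (below_step (f := fun i => Nat.ble data.N i || pointOK i) (below_step (f := fun i => Nat.ble data.N i || pointOK i) (below_step (f := fun i => Nat.ble data.N i || pointOK i) (below_step (f := fun i => Nat.ble data.N i || pointOK i) (below_step (f := fun i => Nat.ble data.N i || pointOK i) (below_step (f := fun i => Nat.ble data.N i || pointOK i) (below_step (f := fun i => Nat.ble data.N i || pointOK i) (below_step (f := fun i => Nat.ble data.N i || pointOK i) (below_step (f := fun i => Nat.ble data.N i || pointOK i) (below_step (f := fun i => Nat.ble data.N i || pointOK i) (below_step (f := fun i => Nat.ble data.N i || pointOK i) (below_step (f := fun i => Nat.ble data.N i || pointOK i) (below_step (f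 := fun i => Nat.ble data.N i || pointOK i) (below_step (f := fun i => Nat.ble data.N i || pointOK i) (below_step (f := fun i => Nat.ble data.N i || pointOK i) (below_step (f := fun i => Nat.ble data.N i || pointOK i) (below_step (f := fun i => Nat.ble data.N i || pointOK i) (below_step (f := fun i => Nat.ble data.N i || pointOK i) (below_step (f := fun i => Nat.ble data.N i || pointOK i) (below_step (f := fun i => Nat.ble data.N i || pointOK i) (below_step (f := fun i => Nat.ble data.N i || pointOK i) (below_step (f := fun i => Nat.ble data.N i || pointOK i) (below_step (f := fun i => Nat.ble data.N i || pointOK i) (below_step (f := fun i => Nat.ble data.N i || pointOK i) (below_step (f := fun i => Nat.ble data.N i || pointOK i) (below_step (f := fun i => Nat.ble data.N i || pointOK i) (below_step (f := fun i => Nat.ble data.N i || pointOK i) (below_step (f := fun i => Nat.ble data.N i || pointOK i) (below_step (f := fun i => Nat.ble data.N i || pointOK i) (below_step (f := fun i => Nat.ble data.N i || pointOK i) (below_step (f := fun i => Nat.ble data.N i || pointOK i) (below_step (f := fun i => Nat.ble data.N i || pointOK i) (below_step (f := fun i => Nat.ble data.N i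 || pointOK i) (below_step (f := fun i => Nat.ble data.N i || pointOK i) (below_step (f := fun i => Nat.ble data.N i || pointOK i) (below_step (f := fun i => Nat.ble data.N i || pointOK i) below_zero (fun i h hi => of_ble_or h hi) point_block0) (fun i h hi => of_ble_or h hi) point_block1) (fun i h hi => of_ble_or h hi) point_block2) (fun i h hi => of_ble_or h hi) point_block3) (fun i h hi => of_ble_or h hi) point_block4) (fun i h hi => of_ble_or h hi) point_block5) (fun i h hi => of_ble_or h hi) point_block6) (fun i h hi => of_ble_or h hi) point_block7) (fun i h hi => of_ble_or h hi) point_block8) (fun i h hi => of_ble_or h hi) point_block9) (fun i h hi => of_ble_or h hi) point_block10) (fun i h hi => of_ble_or h hi) point_block11) (fun i h hi => of_ble_or h hi) point_block12) (fun i h hi => of_ble_or h hi) point_block13) (fun i h hi => of_ble_or h hi) point_block14) (fun i h hi => of_ble_or h hi) point_block15) (fun i h hi => of_ble_or h hi) point_block16) (fun i h hi => of_ble_or h hi) point_block17) (fun i h hi => of_ble_or h hi) point_block18) (fun i h hi => of_ble_or h hi) point_block19) (fun i h hi => of_ble_or h hi) point_block20) (fun i h hi => of_ble_or h hi) point_block21)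 (fun i h hi => of_ble_or h hi) point_block22) (fun i h hi => of_ble_or h hi) point_block23) (fun i h hi => of_ble_or h hi) point_block24) (fun i h hi => of_ble_or h hi) point_block25) (fun i h hi => of_ble_or h hi) point_block26) (fun i h hi => of_ble_or h hi) point_block27) (fun i h hi => of_ble_or h hi) point_block28) (fun i h hi => of_ble_or h hi) point_block29) (fun i h hi => of_ble_or h hi) point_block30) (fun i h hi => of_ble_or h hi) point_block31) (fun i h hi => of_ble_or h hi) point_block32) (fun i h hi => of_ble_or h hi) point_block33) (fun i h hi => of_ble_or h hi) point_block34) (fun i h hi => of_ble_or h hi) point_block35) (fun i h hi => of_ble_or h hi) point_block36) (fun i h hi => of_ble_or h hi) point_block37) (fun i h hi => of_ble_or h hi) point_block38) (fun i h hi => of_ble_or h hi) point_block39) (fun i h hi => of_ble_or h hi) point_block40) (fun i h hi => of_ble_or h hi) point_block41) (fun i h hi => of_ble_or h hi) point_block42) (fun i h hi => of_ble_or h hi) point_block43) (fun i h hi => of_ble_or h hi) point_block44) (fun i h hi => of_ble_or h hi) point_block45) (fun i h hi => of_ble_or h hi) point_block46) (fun i h hi => of_ble_or h hi) point_block47)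 (fun i h hi => of_ble_or h hi) point_block48) (fun i h hi => of_ble_or h hi) point_block49) (fun i h hi => of_ble_or h hi) point_block50) (fun i h hi => of_ble_or h hi) point_block51) (fun i h hi => of_ble_or h hi) point_block52) (fun i h hi => of_ble_or h hi) point_block53) (fun i h hi => of_ble_or h hi) point_block54) (fun i h hi => of_ble_or h hi) point_block55) (fun i h hi => of_ble_or h hi) point_block56) (fun i h hi => of_ble_or h hi) point_block57) (fun i h hi => of_ble_or h hi) point_block58) (fun i h hi => of_ble_or h hi) point_block59) (fun i h hi => of_ble_or h hi) point_block60) (fun i h hi => of_ble_or h hi) point_block61) (fun i h hi => of_ble_or h hi) point_block62) (fun i h hi => of_ble_or h hi) point_block63) (fun i h hi => of_ble_or h hi) point_block64) (fun i h hi => of_ble_or h hi) point_block65) (fun i h hi => of_ble_or h hi) point_block66) (fun i h hi => of_ble_or h hi) point_block67) (fun i h hi => of_ble_or h hi) point_block68) (fun i h hi => of_ble_or h hi) point_block69) (fun i h hi => of_ble_or h hi) point_block70) (fun i h hi => of_ble_or h hi) point_block71) (fun i h hi => of_ble_or h hi) point_block72) (fun i h hi => of_ble_or h hi) point_block73)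 (fun i h hi => of_ble_or h hi) point_block74) (fun i h hi => of_ble_or h hi) point_block75) (fun i h hi => of_ble_or h hi) point_block76) (fun i h hi => of_ble_or h hi) point_block77) (fun i h hi => of_ble_or h hi) point_block78) (fun i h hi => of_ble_or h hi) point_block79) (fun i h hi => of_ble_or h hi) point_block80) (fun i h hi => of_ble_or h hi) point_block81) (fun i h hi => of_ble_or h hi) point_block82) (fun i h hi => of_ble_or h hi) point_block83) (fun i h hi => of_ble_or h hi) point_block84) (fun i h hi => of_ble_or h hi) point_block85) (fun i h hi => of_ble_or h hi) point_block86) (fun i h hi => of_ble_or h hi) point_block87) (fun i h hi => of_ble_or h hi) point_block88) (fun i h hi => of_ble_or h hi) point_block89) (fun i h hi => of_ble_or h hi) point_block90) (fun i h hi => of_ble_or h hi) point_block91) (fun i h hi => of_ble_or h hi) point_block92) (fun i h hi => of_ble_or h hi) point_block93) (fun i h hi => of_ble_or h hi) point_block94) (fun i h hi => of_ble_or h hi) point_block95) (fun i h hi => of_ble_or h hi) point_block96) (fun i h hi => of_ble_or h hi) point_block97) (fun i h hi => of_ble_or h hi) point_block98) (fun i h hi => of_ble_or h hi) point_block99)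 (fun i h hi => of_ble_or h hi) point_block100) (fun i h hi => of_ble_or h hi) point_block101) (fun i h hi => of_ble_or h hi) point_block102) (fun i h hi => of_ble_or h hi) point_block103) (fun i h hi => of_ble_or h hi) point_block104) (fun i h hi => of_ble_or h hi) point_block105) (fun i h hi => of_ble_or h hi) point_block106) (fun i h hi => of_ble_or h hi) point_block107) (fun i h hi => of_ble_or h hi) point_block108) (fun i h hi => of_ble_or h hi) point_block109) (fun i h hi => of_ble_or h hi) point_block110) (fun i h hi => of_ble_or h hi) point_block111) (fun i h hi => of_ble_or h hi) point_block112) (fun i h hi => of_ble_or h hi) point_block113) (fun i h hi => of_ble_or h hi) point_block114) (fun i h hi => of_ble_or h hi) point_block115) (fun i h hi => of_ble_or h hi) point_block116) (fun i h hi => of_ble_or h hi) point_block117) (fun i h hi => of_ble_or h hi) point_block118) (fun i h hi => of_ble_or h hi) point_block119) (fun i h hi => of_ble_or h hi) point_block120) (fun i h hi => of_ble_or h hi) point_block121) (fun i h hi => of_ble_or h hi) point_block122) (fun i h hi => of_ble_or h hi) point_block123) : ∀ i < 31488 + 2 ^ 8, i < data.N → pointOK i = true)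
    k (lt_of_lt_of_le hk (by decide +kernel)) hk

theorem specs_all : ∀ i < data.N, data.specs.all (data.specOK i) = true := by
  intro k hk
  exact ((below_step (f := fun i => Nat.ble data.N i || data.specs.all (data.specOK i)) (below_step (f := fun i => Nat.ble data.N i || data.specs.all (data.specOK i)) (below_step (f := fun i => Nat.ble data.N i || data.specs.all (data.specOK i)) (below_step (f := fun i => Nat.ble data.N i || data.specs.all (data.specOK i)) (below_step (f := fun i => Nat.ble data.N i || data.specs.all (data.specOK i)) (below_step (f := fun i => Nat.ble data.N i || data.specs.all (data.specOK i)) (below_step (f := fun i => Nat.ble data.N i || data.specs.all (data.specOK i)) (below_step (f := fun i => Nat.ble data.N i || data.specs.all (data.specOK i)) (below_step (f := fun i => Nat.ble data.N i || data.specs.all (data.specOK i)) (below_step (f := fun i => Nat.ble data.N i || data.specs.all (data.specOK i)) (below_step (f := fun i => Nat.ble data.N i || data.specs.all (data.specOK i)) (below_step (f := fun i => Nat.ble data.N i || data.specs.all (data.specOK i)) (below_step (f := fun i => Nat.ble data.N i || data.specs.all (data.specOK i)) (below_step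 (f := fun i => Nat.ble data.N i || data.specs.all (data.specOK i)) (below_step (f := fun i => Nat.ble data.N i || data.specs.all (data.specOK i)) (below_step (f := fun i => Nat.ble data.N i || data.specs.all (data.specOK i)) (below_step (f := fun i => Nat.ble data.N i || data.specs.all (data.specOK i)) (below_step (f := fun i => Nat.ble data.N i || data.specs.all (data.specOK i)) (below_step (f := fun i => Nat.ble data.N i || data.specs.all (data.specOK i)) (below_step (f := fun i => Nat.ble data.N i || data.specs.all (data.specOK i)) (below_step (f := fun i => Nat.ble data.N i || data.specs.all (data.specOK i)) (below_step (f := fun i => Nat.ble data.N i || data.specs.all (data.specOK i)) (below_step (f := fun i => Nat.ble data.N i || data.specs.all (data.specOK i)) (below_step (f := fun i => Nat.ble data.N i || data.specs.all (data.specOK i)) (below_step (f := fun i => Nat.ble data.N i || data.specs.all (data.specOK i)) (below_step (f := fun i => Nat.ble data.N i || data.specs.all (data.specOK i)) (below_step (f := fun i => Nat.ble data.N i || data.specs.all (data.specOK i)) (below_step (f := fun i => Nat.ble data.N i || data.specs.all (data.specOK i)) (below_step (f :=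 fun i => Nat.ble data.N i || data.specs.all (data.specOK i)) (below_step (f := fun i => Nat.ble data.N i || data.specs.all (data.specOK i)) (below_step (f := fun i => Nat.ble data.N i || data.specs.all (data.specOK i)) (below_step (f := fun i => Nat.ble data.N i || data.specs.all (data.specOK i)) (below_step (f := fun i => Nat.ble data.N i || data.specs.all (data.specOK i)) (below_step (f := fun i => Nat.ble data.N i || data.specs.all (data.specOK i)) (below_step (f := fun i => Nat.ble data.N i || data.specs.all (data.specOK i)) (below_step (f := fun i => Nat.ble data.N i || data.specs.all (data.specOK i)) (below_step (f := fun i => Nat.ble data.N i || data.specs.all (data.specOK i)) (below_step (f := fun i => Nat.ble data.N i || data.specs.all (data.specOK i)) (below_step (f := fun i => Nat.ble data.N i || data.specs.all (data.specOK i)) (below_step (f := fun i => Nat.ble data.N i || data.specs.all (data.specOK i)) (below_step (f := fun i => Nat.ble data.N i || data.specs.all (data.specOK i)) (below_step (f := fun i => Nat.ble data.N i || data.specs.all (data.specOK i)) (below_step (f := fun i => Nat.ble data.N i || data.specs.all (data.specOK i)) (below_step (f := fun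 i => Nat.ble data.N i || data.specs.all (data.specOK i)) (below_step (f := fun i => Nat.ble data.N i || data.specs.all (data.specOK i)) (below_step (f := fun i => Nat.ble data.N i || data.specs.all (data.specOK i)) (below_step (f := fun i => Nat.ble data.N i || data.specs.all (data.specOK i)) (below_step (f := fun i => Nat.ble data.N i || data.specs.all (data.specOK i)) (below_step (f := fun i => Nat.ble data.N i || data.specs.all (data.specOK i)) (below_step (f := fun i => Nat.ble data.N i || data.specs.all (data.specOK i)) (below_step (f := fun i => Nat.ble data.N i || data.specs.all (data.specOK i)) (below_step (f := fun i => Nat.ble data.N i || data.specs.all (data.specOK i)) (below_step (f := fun i => Nat.ble data.N i || data.specs.all (data.specOK i)) (below_step (f := fun i => Nat.ble data.N i || data.specs.all (data.specOK i)) (below_step (f := fun i => Nat.ble data.N i || data.specs.all (data.specOK i)) (below_step (f := fun i => Nat.ble data.N i || data.specs.all (data.specOK i)) (below_step (f := fun i => Nat.ble data.N i || data.specs.all (data.specOK i)) (below_step (f := fun i => Nat.ble data.N i || data.specs.all (data.specOK i)) (below_step (f := fun i =>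 Nat.ble data.N i || data.specs.all (data.specOK i)) (below_step (f := fun i => Nat.ble data.N i || data.specs.all (data.specOK i)) (below_step (f := fun i => Nat.ble data.N i || data.specs.all (data.specOK i)) (below_step (f := fun i => Nat.ble data.N i || data.specs.all (data.specOK i)) (below_step (f := fun i => Nat.ble data.N i || data.specs.all (data.specOK i)) (below_step (f := fun i => Nat.ble data.N i || data.specs.all (data.specOK i)) (below_step (f := fun i => Nat.ble data.N i || data.specs.all (data.specOK i)) (below_step (f := fun i => Nat.ble data.N i || data.specs.all (data.specOK i)) (below_step (f := fun i => Nat.ble data.N i || data.specs.all (data.specOK i)) (below_step (f := fun i => Nat.ble data.N i || data.specs.all (data.specOK i)) (below_step (f := fun i => Nat.ble data.N i || data.specs.all (data.specOK i)) (below_step (f := fun i => Nat.ble data.N i || data.specs.all (data.specOK i)) (below_step (f := fun i => Nat.ble data.N i || data.specs.all (data.specOK i)) (below_step (f := fun i => Nat.ble data.N i || data.specs.all (data.specOK i)) (below_step (f := fun i => Nat.ble data.N i || data.specs.all (data.specOK i)) (below_step (f := fun i => Nat.ble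 data.N i || data.specs.all (data.specOK i)) (below_step (f := fun i => Nat.ble data.N i || data.specs.all (data.specOK i)) (below_step (f := fun i => Nat.ble data.N i || data.specs.all (data.specOK i)) (below_step (f := fun i => Nat.ble data.N i || data.specs.all (data.specOK i)) (below_step (f := fun i => Nat.ble data.N i || data.specs.all (data.specOK i)) (below_step (f := fun i => Nat.ble data.N i || data.specs.all (data.specOK i)) (below_step (f := fun i => Nat.ble data.N i || data.specs.all (data.specOK i)) (below_step (f := fun i => Nat.ble data.N i || data.specs.all (data.specOK i)) (below_step (f := fun i => Nat.ble data.N i || data.specs.all (data.specOK i)) (below_step (f := fun i => Nat.ble data.N i || data.specs.all (data.specOK i)) (below_step (f := fun i => Nat.ble data.N i || data.specs.all (data.specOK i)) (below_step (f := fun i => Nat.ble data.N i || data.specs.all (data.specOK i)) (below_step (f := fun i => Nat.ble data.N i || data.specs.all (data.specOK i)) (below_step (f := fun i => Nat.ble data.N i || data.specs.all (data.specOK i)) (below_step (f := fun i => Nat.ble data.N i || data.specs.all (data.specOK i)) (below_step (f := fun i => Nat.ble data.N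 i || data.specs.all (data.specOK i)) (below_step (f := fun i => Nat.ble data.N i || data.specs.all (data.specOK i)) (below_step (f := fun i => Nat.ble data.N i || data.specs.all (data.specOK i)) (below_step (f := fun i => Nat.ble data.N i || data.specs.all (data.specOK i)) (below_step (f := fun i => Nat.ble data.N i || data.specs.all (data.specOK i)) (below_step (f := fun i => Nat.ble data.N i || data.specs.all (data.specOK i)) (below_step (f := fun i => Nat.ble data.N i || data.specs.all (data.specOK i)) (below_step (f := fun i => Nat.ble data.N i || data.specs.all (data.specOK i)) (below_step (f := fun i => Nat.ble data.N i || data.specs.all (data.specOK i)) (below_step (f := fun i => Nat.ble data.N i || data.specs.all (data.specOK i)) (below_step (f := fun i => Nat.ble data.N i || data.specs.all (data.specOK i)) (below_step (f := fun i => Nat.ble data.N i || data.specs.all (data.specOK i)) (below_step (f := fun i => Nat.ble data.N i || data.specs.all (data.specOK i)) (below_step (f := fun i => Nat.ble data.N i || data.specs.all (data.specOK i)) (below_step (f := fun i => Nat.ble data.N i || data.specs.all (data.specOK i)) (below_step (f := fun i => Nat.ble data.N i ||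 data.specs.all (data.specOK i)) (below_step (f := fun i => Nat.ble data.N i || data.specs.all (data.specOK i)) (below_step (f := fun i => Nat.ble data.N i || data.specs.all (data.specOK i)) (below_step (f := fun i => Nat.ble data.N i || data.specs.all (data.specOK i)) (below_step (f := fun i => Nat.ble data.N i || data.specs.all (data.specOK i)) (below_step (f := fun i => Nat.ble data.N i || data.specs.all (data.specOK i)) (below_step (f := fun i => Nat.ble data.N i || data.specs.all (data.specOK i)) (below_step (f := fun i => Nat.ble data.N i || data.specs.all (data.specOK i)) (below_step (f := fun i => Nat.ble data.N i || data.specs.all (data.specOK i)) (below_step (f := fun i => Nat.ble data.N i || data.specs.all (data.specOK i)) (below_step (f := fun i => Nat.ble data.N i || data.specs.all (data.specOK i)) (below_step (f := fun i => Nat.ble data.N i || data.specs.all (data.specOK i)) (below_step (f := fun i => Nat.ble data.N i || data.specs.all (data.specOK i)) (below_step (f := fun i => Nat.ble data.N i || data.specs.all (data.specOK i)) (below_step (f := fun i => Nat.ble data.N i || data.specs.all (data.specOK i)) (below_step (f := fun i => Nat.ble data.N i || data.specs.all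 (data.specOK i)) (below_step (f := fun i => Nat.ble data.N i || data.specs.all (data.specOK i)) (below_step (f := fun i => Nat.ble data.N i || data.specs.all (data.specOK i)) (below_step (f := fun i => Nat.ble data.N i || data.specs.all (data.specOK i)) (below_step (f := fun i => Nat.ble data.N i || data.specs.all (data.specOK i)) (below_step (f := fun i => Nat.ble data.N i || data.specs.all (data.specOK i)) below_zero (fun i h hi => of_ble_or h hi) spec_block0) (fun i h hi => of_ble_or h hi) spec_block1) (fun i h hi => of_ble_or h hi) spec_block2) (fun i h hi => of_ble_or h hi) spec_block3) (fun i h hi => of_ble_or h hi) spec_block4) (fun i h hi => of_ble_or h hi) spec_block5) (fun i h hi => of_ble_or h hi) spec_block6) (fun i h hi => of_ble_or h hi) spec_block7) (fun i h hi => of_ble_or h hi) spec_block8) (fun i h hi => of_ble_or h hi) spec_block9) (fun i h hi => of_ble_or h hi) spec_block10) (fun i h hi => of_ble_or h hi) spec_block11) (fun i h hi => of_ble_or h hi) spec_block12) (fun i h hi => of_ble_or h hi) spec_block13) (fun i h hi => of_ble_or h hi) spec_block14) (fun i h hi => of_ble_or h hi) spec_block15) (fun i h hi => of_ble_or h hi) spec_block16) (fun i h hi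 => of_ble_or h hi) spec_block17) (fun i h hi => of_ble_or h hi) spec_block18) (fun i h hi => of_ble_or h hi) spec_block19) (fun i h hi => of_ble_or h hi) spec_block20) (fun i h hi => of_ble_or h hi) spec_block21) (fun i h hi => of_ble_or h hi) spec_block22) (fun i h hi => of_ble_or h hi) spec_block23) (fun i h hi => of_ble_or h hi) spec_block24) (fun i h hi => of_ble_or h hi) spec_block25) (fun i h hi => of_ble_or h hi) spec_block26) (fun i h hi => of_ble_or h hi) spec_block27) (fun i h hi => of_ble_or h hi) spec_block28) (fun i h hi => of_ble_or h hi) spec_block29) (fun i h hi => of_ble_or h hi) spec_block30) (fun i h hi => of_ble_or h hi) spec_block31) (fun i h hi => of_ble_or h hi) spec_block32) (fun i h hi => of_ble_or h hi) spec_block33) (fun i h hi => of_ble_or h hi) spec_block34) (fun i h hi => of_ble_or h hi) spec_block35) (fun i h hi => of_ble_or h hi) spec_block36) (fun i h hi => of_ble_or h hi) spec_block37) (fun i h hi => of_ble_or h hi) spec_block38) (fun i h hi => of_ble_or h hi) spec_block39) (fun i h hi => of_ble_or h hi) spec_block40) (fun i h hi => of_ble_or h hi) spec_block41) (fun i h hi => of_ble_or h hi) spec_block42) (fun i h hi => of_ble_or h hi)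 spec_block43) (fun i h hi => of_ble_or h hi) spec_block44) (fun i h hi => of_ble_or h hi) spec_block45) (fun i h hi => of_ble_or h hi) spec_block46) (fun i h hi => of_ble_or h hi) spec_block47) (fun i h hi => of_ble_or h hi) spec_block48) (fun i h hi => of_ble_or h hi) spec_block49) (fun i h hi => of_ble_or h hi) spec_block50) (fun i h hi => of_ble_or h hi) spec_block51) (fun i h hi => of_ble_or h hi) spec_block52) (fun i h hi => of_ble_or h hi) spec_block53) (fun i h hi => of_ble_or h hi) spec_block54) (fun i h hi => of_ble_or h hi) spec_block55) (fun i h hi => of_ble_or h hi) spec_block56) (fun i h hi => of_ble_or h hi) spec_block57) (fun i h hi => of_ble_or h hi) spec_block58) (fun i h hi => of_ble_or h hi) spec_block59) (fun i h hi => of_ble_or h hi) spec_block60) (fun i h hi => of_ble_or h hi) spec_block61) (fun i h hi => of_ble_or h hi) spec_block62) (fun i h hi => of_ble_or h hi) spec_block63) (fun i h hi => of_ble_or h hi) spec_block64) (fun i h hi => of_ble_or h hi) spec_block65) (fun i h hi => of_ble_or h hi) spec_block66) (fun i h hi => of_ble_or h hi) spec_block67) (fun i h hi => of_ble_or h hi) spec_block68) (fun i h hi => of_ble_or h hi) spec_block69) (fun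 i h hi => of_ble_or h hi) spec_block70) (fun i h hi => of_ble_or h hi) spec_block71) (fun i h hi => of_ble_or h hi) spec_block72) (fun i h hi => of_ble_or h hi) spec_block73) (fun i h hi => of_ble_or h hi) spec_block74) (fun i h hi => of_ble_or h hi) spec_block75) (fun i h hi => of_ble_or h hi) spec_block76) (fun i h hi => of_ble_or h hi) spec_block77) (fun i h hi => of_ble_or h hi) spec_block78) (fun i h hi => of_ble_or h hi) spec_block79) (fun i h hi => of_ble_or h hi) spec_block80) (fun i h hi => of_ble_or h hi) spec_block81) (fun i h hi => of_ble_or h hi) spec_block82) (fun i h hi => of_ble_or h hi) spec_block83) (fun i h hi => of_ble_or h hi) spec_block84) (fun i h hi => of_ble_or h hi) spec_block85) (fun i h hi => of_ble_or h hi) spec_block86) (fun i h hi => of_ble_or h hi) spec_block87) (fun i h hi => of_ble_or h hi) spec_block88) (fun i h hi => of_ble_or h hi) spec_block89) (fun i h hi => of_ble_or h hi) spec_block90) (fun i h hi => of_ble_or h hi) spec_block91) (fun i h hi => of_ble_or h hi) spec_block92) (fun i h hi => of_ble_or h hi) spec_block93) (fun i h hi => of_ble_or h hi) spec_block94) (fun i h hi => of_ble_or h hi) spec_block95) (fun i h hi => of_ble_or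 h hi) spec_block96) (fun i h hi => of_ble_or h hi) spec_block97) (fun i h hi => of_ble_or h hi) spec_block98) (fun i h hi => of_ble_or h hi) spec_block99) (fun i h hi => of_ble_or h hi) spec_block100) (fun i h hi => of_ble_or h hi) spec_block101) (fun i h hi => of_ble_or h hi) spec_block102) (fun i h hi => of_ble_or h hi) spec_block103) (fun i h hi => of_ble_or h hi) spec_block104) (fun i h hi => of_ble_or h hi) spec_block105) (fun i h hi => of_ble_or h hi) spec_block106) (fun i h hi => of_ble_or h hi) spec_block107) (fun i h hi => of_ble_or h hi) spec_block108) (fun i h hi => of_ble_or h hi) spec_block109) (fun i h hi => of_ble_or h hi) spec_block110) (fun i h hi => of_ble_or h hi) spec_block111) (fun i h hi => of_ble_or h hi) spec_block112) (fun i h hi => of_ble_or h hi) spec_block113) (fun i h hi => of_ble_or h hi) spec_block114) (fun i h hi => of_ble_or h hi) spec_block115) (fun i h hi => of_ble_or h hi) spec_block116) (fun i h hi => of_ble_or h hi) spec_block117) (fun i h hi => of_ble_or h hi) spec_block118) (fun i h hi => of_ble_or h hi) spec_block119) (fun i h hi => of_ble_or h hi) spec_block120) (fun i h hi => of_ble_or h hi) spec_block121) (fun i h hi => of_ble_or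 h hi) spec_block122) (fun i h hi => of_ble_or h hi) spec_block123) : ∀ i < 31488 + 2 ^ 8, i < data.N → data.specs.all (data.specOK i) = true)
    k (lt_of_lt_of_le hk (by decide +kernel)) hk

theorem valid : data.Valid (Cfsg.Spor.coxRelators Cfsg.Spor.Fi23.edges ∪ {r | r ∈ Cfsg.Spor.Fi23.extra}) {r | r ∈ gensList} where
  letters := by unfold PresData.lettersOK; decide +kernel
  invs := by
    have h : ∀ l ∈ List.range (data.cols.length + 1),
        pval (data.act FreeGroup.of) [l, data.inv l] ∈ coxList Cfsg.Spor.Fi23.edges Cfsg.Spor.Fi23.extra ∨
        data.act FreeGroup.of (data.inv l) = (data.act FreeGroup.of l)⁻¹ := by decide +kernel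
    exact fun l hl => (h l hl).imp_left (mem_coxList _ _ _).2
  codes := by unfold PresData.codeOK; decide +kernel
  allCode := by intro a; cases a <;> decide +kernel
  rels_le := by
    have h : ∀ r ∈ coxList Cfsg.Spor.Fi23.edges Cfsg.Spor.Fi23.extra, ∃ u ∈ data.words,
        ∃ o ∈ List.range 2, data.codeWord r.toWord = u.rotate o := by decide +kernel
    intro r hr
    obtain ⟨u, hu, o, -, ho⟩ := h r ((mem_coxList _ _ r).1 hr)
    exact ⟨u, hu, o, ho⟩
  le_rels := by
    have h : ∀ u ∈ data.words, ∃ r ∈ coxList Cfsg.Spor.Fi23.edges Cfsg.Spor.Fi23.extra,
        data.codeWord r.toWord = u := by decide +kernel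
    intro u hu
    obtain ⟨r, hr, hru⟩ := h u hu
    exact ⟨r, (mem_coxList _ _ r).2 hr, hru⟩
  subs_le := by
    have h : ∀ u ∈ data.subs, pval (data.act FreeGroup.of) u ∈ gensList := by decide +kernel
    exact h
  le_subs := by
    have h : ∀ s ∈ gensList, ∃ u ∈ data.subs, s = pval (data.act FreeGroup.of) u := by decide +kernel
    exact h
  subs_unpack := by decide +kernel
  pos := by decide +kernel
  node_zero := by decide +kernel
  rules_ok := by
    have h : allB (fun i => Nat.ble data.nr i || data.ruleOK data.words (data.rules.get data.rw' i)) 9 0 = true := by
      decide +kernel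
    exact fun i hi => of_ble_or (allB_spec_zero h (by decide +kernel) hi) hi
  facts := facts_all
  edge := fun i hi l hl => by
    have h := points_all i hi
    simp only [pointOK, Bool.and_eq_true, List.all_eq_true] at h
    exact h.1 l hl
  look_ok := fun i hi l hl => by
    have h := points_all i hi
    simp only [pointOK, Bool.and_eq_true, List.all_eq_true] at h
    exact h.2.1 l hl
  spec := fun i hi s hs => List.all_eq_true.1 (specs_all i hi) s hs
  tree := fun i hi => by
    have h := points_all i hi
    simp only [pointOK, Bool.and_eq_true] at h
    exact h.2.2
  sub_fix := by decide +kernel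

theorem word_letters : ∀ u ∈ data.words ++ data.subs, ∀ l ∈ u, 1 ≤ l ∧ l ≤ data.cols.length := by
  decide +kernel

theorem base_letters : ∀ s ∈ data.specs, ∀ l ∈ s.base, 1 ≤ l ∧ l ≤ data.cols.length := by
  decide +kernel

/-- An orbit of size 3510. -/
def orbit0 : OrbitData := ⟨28161, 31671, ordT, rankT, oparT⟩

theorem orbit0_valid : orbit0.Valid data := by
  refine ⟨by decide +kernel, fun r h1 h2 => ?_⟩
  have h : allB (fun r => Nat.ble 31671 r || orbit0.ok data r) 12 28161 = true := by decide +kernel
  exact of_ble_or (allB_spec h r h1 (lt_of_lt_of_le h2 (by decide +kernel))) h2

/-- An orbit of size 28160. -/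
def orbit1 : OrbitData := ⟨1, 28161, ordT, rankT, oparT⟩

theorem orbit1_valid : orbit1.Valid data := by
  refine ⟨by decide +kernel, fun r h1 h2 => ?_⟩
  have h : allB (fun r => Nat.ble 28161 r || orbit1.ok data r) 15 1 = true := by decide +kernel
  exact of_ble_or (allB_spec h r h1 (lt_of_lt_of_le h2 (by decide +kernel))) h2

end Cfsg.Agent.CosetCert.FiTwentyThree
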